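import Cfsg.Agent.LieM.Gold8
import Cfsg.Agent.Gold.KB1
import Cfsg.Agent.PLocal.WeakCl
import Mathlib.Tactic.Group

/-! Groups in which Sylow 2-intersections have rank at most one (helper2): `CI`, `gold_elem_or`, `le_of_HN`, `CI.struct`. -/
set_option autoImplicit false
set_option linter.unusedSectionVars false
namespace Cfsg.Agent.LieM
open Cfsg Subgroup Cfsg.Agent.BG Cfsg.Agent.AB Cfsg.Agent.Invol Cfsg.Agent.Sig Cfsg.Agent.Rank1
open scoped MatrixGroups commutatorElement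

variable {G : Type*} [Group G] [Finite G]

theorem TIS.hyp [IsSimpleGroup G] (h : TIS G) (hna : ¬ IsMulCommutative G) (S : Sylow 2 G) :
    ∃ t, Suz.Hyp G (G ⧸ N[(S : Subgroup G)]) (SE.pt _) t S := by
  obtain ⟨t, Q, hQ⟩ := SE.bender_simple (SE.exists_not_comm hna) (h.se hna S)
  obtain rfl : Q = S := S.is_maximal' hQ.tri.1 fun x hx => let ⟨n, hn⟩ := S.isPGroup' ⟨x, hx⟩
    Setup.mem_Q_of_pow hQ.setup (SE.smul_pt.2 (normG _ hx)) (n := n) (congrArg Subtype.val hn)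
  exact ⟨t, hQ⟩

theorem gold_elem_or [IsSimpleGroup G] (hna : ¬ IsMulCommutative G) (h : IsGoldschmidtGroup G) (S : Sylow 2 G) :
    (∀ x ∈ (S : Subgroup G), x * x = 1) ∨ ∃ t, Gold.HN G (G ⧸ N[(S : Subgroup G)]) (SE.pt _) t S := by
  rcases gold_cases h with h | ⟨F, _, _, h8, -, ⟨e⟩⟩ | ⟨F, _, _, t, K, j⟩
  · obtain ⟨t, ht⟩ := h.hyp hna S
    by_cases hc : Comm (S : Subgroup G)
    · exact Or.inl (hyp_elem ht hc)
    · exact Or.inr ⟨t, ht, inferInstance, hc⟩
  · obtain ⟨u, hu, v, hv, u2, v2, uv, c⟩ := rank2_of_simple hna S (A := S) fun x hx _ => hx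
    obtain ⟨h4, -⟩ := Small.four_of_commute u2 v2 uv c
    have l : zpowers u ⊔ zpowers v ≤ S := sup_le (zpowers_le.2 hu) (zpowers_le.2 hv)
    obtain ⟨n, hn⟩ := IsPGroup.iff_card.1 S.isPGroup'
    have h3 : n < 3 := by
      by_contra! r
      exact not_eight_dvd_psl h8 (Nat.card_congr e.toEquiv ▸ ((pow_dvd_pow 2 r).trans hn.symm.dvd).trans
        (card_subgroup_dvd_card _))
    have e := eq_of_card_le l (by rw [hn, h4.card_four]; exact Nat.pow_le_pow_right two_pos (show n ≤ 2 by omega))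
    exact Or.inl fun x hx => congrArg Subtype.val (IsKleinFour.mul_self (⟨x, e ▸ hx⟩ : ↥(zpowers u ⊔ zpowers v)))
  · obtain ⟨u, s, K', w⟩ := j.wj hna
    exact Or.inl fun x hx => w.sqP S.isPGroup' hx

/-- A 2-subgroup normalised by `N_L(T)` induces inner automorphisms on `L = Sz(q)` or `U₃(q)`. -/
theorem le_of_HN {L S : Subgroup G} [L.Normal] (hC : C[L] = ⊥) (hS : IsPGroup 2 S) {t : L} {Q : Subgroup L}
    (h : Gold.HN L (L ⧸ N[Q]) (SE.pt _) t Q) (hQ : Q = S.subgroupOf L) (hn : ∀ d ∈ N[Q], (d : G) ∈ N[S])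
    (h0 : ∀ u ∈ Q, u * u = 1 → (u : G) ∈ C[S]) : S ≤ L := by
  by_contra hle
  obtain ⟨s, hs, sL, s2⟩ : ∃ s ∈ S, s ∉ L ∧ s * s ∈ L := by
    obtain ⟨s, hs, sL⟩ := SetLike.not_le_iff_exists.1 hle
    obtain ⟨k, hk⟩ := hS ⟨s, hs⟩
    obtain ⟨j, h1, h2⟩ := PLocal.exists_pow_not_mem (p := 2) (k := k) sL
      (by rw [show s ^ 2 ^ k = 1 from congrArg Subtype.val hk]; exact one_mem _)
    exact ⟨_, pow_mem hs _, h1, by rwa [← sq]⟩
  have st := h.setup
  have mQ : ∀ x : L, x ∈ Q ↔ (x : G) ∈ S := fun x => by rw [hQ]; rfl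
  have nQ : ∀ s ∈ S, ∀ x : L, MulAut.conjNormal s x ∈ Q ↔ x ∈ Q := fun s hs x => by
    rw [mQ, mQ, MulAut.conjNormal_apply, mul_mem_cancel_right (inv_mem hs), mul_mem_cancel_left hs]
  have nN : ∀ s ∈ S, ∀ x ∈ N[Q], MulAut.conjNormal s x ∈ N[Q] := fun s hs x hx => mem_normalizer_iff.2 fun y => by
    obtain ⟨y, rfl⟩ := (MulAut.conjNormal s).surjective y
    rw [← map_inv, ← map_mul, ← map_mul, nQ s hs, nQ s hs]; exact mem_normalizer_iff.1 hx y
  obtain ⟨q, hq, e⟩ := Setup.exists_Q st (b := MulAut.conjNormal s t • SE.pt _) (fun e => Setup.t_smul_ne st (by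
    have := nN _ (inv_mem hs) _ (SE.smul_pt.1 e)
    rw [← MulAut.mul_apply, ← map_mul, inv_mul_cancel, map_one] at this
    exact SE.smul_pt.2 this)) (Setup.t_smul_ne st)
  obtain ⟨r, er⟩ : ∃ r, r = q * s := ⟨_, rfl⟩
  have rS : r ∈ S := er ▸ mul_mem ((mQ q).1 hq) hs
  have rL : r ∉ L := fun h => sL ((mul_mem_cancel_left q.2).1 (er ▸ h))
  have r2 : r * r ∈ L := by
    rw [show r * r = q * (s * q * s⁻¹) * (s * s) by rw [er]; group]
    exact mul_mem (mul_mem q.2 (Normal.conj_mem inferInstance _ q.2 s)) s2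
  have et : MulAut.conjNormal r t • SE.pt N[Q] = t • SE.pt _ := by
    rw [show MulAut.conjNormal r t = q * MulAut.conjNormal s t * q⁻¹ from Subtype.ext (by simp [er, mul_assoc]),
      mul_smul, mul_smul, Setup.smul_a st (inv_mem hq), e]
  have hD : ∀ d ∈ D2 L (SE.pt N[Q]) t, MulAut.conjNormal r d = d := fun d hd => by
    obtain ⟨d1, d2⟩ := mem_D2.1 hd
    have h1 : MulAut.conjNormal r d ∈ D2 L (SE.pt N[Q]) t := by
      refine mem_D2.2 ⟨SE.smul_pt.2 (nN r rS d (SE.smul_pt.1 d1)), ?_⟩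
      have := SE.smul_pt.2 (nN r rS (t⁻¹ * d * t) (SE.smul_pt.1 (by rw [mul_smul, mul_smul, d2, inv_smul_smul])))
      rwa [map_mul, map_mul, map_inv, mul_smul, mul_smul, inv_smul_eq_iff, et] at this
    refine (inv_mul_eq_one.1 (Setup.eq_one_of_mem_D st ((mQ _).2 ?_) (mul_mem (inv_mem hd) h1))).symm
    have := mul_mem ((mem_normalizer_iff.1 (inv_mem (hn d (SE.smul_pt.1 d1))) r).1 rS) (inv_mem rS)
    simpa [mul_assoc] using this
  have r1 : r * r = 1 := by
    obtain ⟨k, hk, k1⟩ := trivgPn.1 h.K_ne_bot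
    have h1 : r * k * r⁻¹ = k := congrArg Subtype.val (hD k (h.mem_K.1 hk).1)
    exact congrArg Subtype.val (h.K_fpf (y := ⟨_, r2⟩) hk k1 ((mQ _).2 (mul_mem rS rS))
      (Subtype.ext ((show Commute r k from mul_inv_eq_iff_eq_mul.1 h1).mul_left (mul_inv_eq_iff_eq_mul.1 h1))))
  have f0 : ∀ u ∈ Suz.Q0 Q, MulAut.conjNormal r u = u := fun u hu => Subtype.ext (by
    rw [MulAut.conjNormal_apply, mem_cent.1 (h0 u (h.mem_Q0.1 hu).1 (h.mem_Q0.1 hu).2) r rS, mul_inv_cancel_right])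
  obtain ⟨B, eB⟩ : ∃ B, B = (Suz.Q0 Q).map L.subtype := ⟨_, rfl⟩
  have mB : ∀ x : L, (x : G) ∈ B ↔ x ∈ Suz.Q0 Q := fun x => eB ▸ mem_map_iff_mem L.subtype_injective
  have BL : B ≤ L := eB ▸ map_subtype_le _
  have BS : B ≤ Z[S] := by
    rw [eB]; rintro _ ⟨u, hu, rfl⟩
    exact ⟨(mQ u).1 (h.mem_Q0.1 hu).1, h0 u (h.mem_Q0.1 hu).1 (h.mem_Q0.1 hu).2⟩
  have nr : zpowers r ≤ N[B] := (zpowers_le.2 rS).trans ((le_centralizer_iff.1 (BS.trans inf_le_right)).trans (cent_sub B))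
  have mBr : ∀ y ∈ B ⊔ zpowers r, y ∈ B ∨ y * r ∈ B := fun y hy => by
    obtain ⟨b, hb, z, hz, rfl⟩ := (mem_sup_norml nr).1 hy
    rcases (Invol.mem_zpowers_invol r1).1 hz with rfl | rfl
    · simp [hb]
    · simp [mul_assoc, r1, hb]
  have hX : Q ≤ N[B ⊔ zpowers r].subgroupOf L := by
    obtain ⟨x, hx, x0⟩ := h.exists_not
    have lt : B ⊔ zpowers r < (S ⊓ L) ⊔ zpowers r := by
      refine lt_of_le_of_ne (sup_le_sup_right (le_inf (BS.trans inf_le_left) BL) _) fun e => ?_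
      rcases mBr x (e ▸ mem_sup_left ⟨(mQ x).1 hx, x.2⟩) with h1 | h1
      · exact x0 ((mB x).1 h1)
      · exact rL ((mul_mem_cancel_left x.2).1 (BL h1))
    obtain ⟨y, hy, y0⟩ := SetLike.exists_of_lt (nilpotent_proper_norm (pgroup_nil (hS.to_le
      (sup_le inf_le_left (zpowers_le.2 rS)))) lt)
    obtain ⟨z, hz, w, hw, rfl⟩ := (mem_sup_norml ((zpowers_le.2 rS).trans (normsI (normG S)
      (le_top.trans (normalizer_eq_top L).ge)))).1 hy.1
    refine h.irr (fun u hu => normG _ (mem_sup_left ((mB u).2 hu))) (fun d hd x _ hx => ?_) (s := ⟨z, hz.2⟩) ((mQ _).2 hz.1)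
      ((mul_mem_cancel_right (normG _ (mem_sup_right hw))).1 hy.2) fun r => y0 (mul_mem_sup ((mB _).2 r) hw)
    have h1 : (d : G) ∈ N[B ⊔ zpowers r] := by
      refine zpowers_le.1 (normsY (zpowers_le.2 (mem_norm_of_cj_le ?_)) (zpowers_le.2 (BG.mem_norm.2 ?_)))
      · rw [eB]; rintro _ ⟨_, ⟨u, hu, rfl⟩, rfl⟩
        exact ⟨_, h.conj_mem_Q0 (mem_D2.1 hd).1 hu, rfl⟩
      · rw [cj_zpowers, ← mul_inv_eq_iff_eq_mul.1 (show r * d * r⁻¹ = d from congrArg Subtype.val (hD d hd)),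
          mul_inv_cancel_right]
    exact mul_mem (mul_mem h1 hx) (inv_mem h1)
  have f1 : ∀ x ∈ Q, x⁻¹ * MulAut.conjNormal r x ∈ Suz.Q0 Q := fun x hx => by
    rcases mBr _ ((mem_normalizer_iff.1 (inv_mem (hX hx)) r).1 (mem_sup_right (mem_zpowers r))) with h1 | h1
    · exact (rL (by simpa [mul_assoc] using Normal.conj_mem inferInstance _ (BL h1) (x : G))).elim
    · refine (mB _).1 ?_
      simpa [mul_assoc, eq_inv_of_mul_eq_one_left r1 |>.symm] using h1
  have f2 := h.fix_all (MulAut.conjNormal r) (fun x => by rw [← MulAut.mul_apply, ← map_mul, r1, map_one]; rfl)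
    (fun x hx => h.fix_Q _ f0 f1 hD hx) hD
  refine rL (bot_le (α := Subgroup G) (hC ▸ mem_cent.2 fun x hx => ?_))
  exact (mul_inv_eq_iff_eq_mul.1 (show r * x * r⁻¹ = x from congrArg Subtype.val (f2 ⟨x, hx⟩))).symm

/-- Distinct Sylow 2-subgroups do not share a four-group. -/
def CI (G : Type*) [Group G] : Prop := ∀ S T : Sylow 2 G, SE.Rank2 ((S : Subgroup G) ⊓ T) → S = T

theorem ci_of_cyclic (h : ∀ S T : Sylow 2 G, S ≠ T → IsCyclic ↥((S : Subgroup G) ⊓ (T : Subgroup G))) : CI G :=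
  fun S T ⟨u, hu, v, hv, u2, v2, uv, _⟩ => by_contra fun e =>
    ((GW.eq_of_cyclic (h S T e) hu u2 hv (mul_self_of v2)).elim (ne_one_of v2) fun e => uv e.symm)

theorem CI.hc (h : CI G) : HC G := fun S T a ha b hb a2 b2 ne c => h S T ⟨a, ha, b, hb, a2.1, b2, ne, c⟩

theorem CI.norm_le (h : CI G) (S : Sylow 2 G) {V : Subgroup G} (hV : SE.Rank2 V) (l : V ≤ S) :
    N[V] ≤ N[(S : Subgroup G)] := fun g hg => BG.mem_norm.2 (congrArg (fun R : Sylow 2 G => (R : Subgroup G))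
  (h (MulAut.conj g • S) S (hV.mono (le_inf ((cj_of_norm hg).ge.trans (cj_mono g l)) l))))

theorem CI.sub (h : CI G) (H : Subgroup G) : CI H := fun S T hr => by
  obtain ⟨P, hP⟩ := S.exists_comap_subtype_eq
  obtain ⟨R, hR⟩ := T.exists_comap_subtype_eq
  obtain ⟨u, hu, v, hv, u2, v2, uv, c⟩ := hr
  rw [← hP, ← hR] at hu hv
  obtain rfl := h P R ⟨u, hu, v, hv, by rwa [orderOf_coe], by rwa [orderOf_coe], fun e => uv (Subtype.ext e),
    congrArg Subtype.val c⟩
  exact Sylow.ext (hP.symm.trans hR)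

theorem CI.equiv {G' : Type*} [Group G'] (e : G ≃* G') (h : CI G') : CI G := fun P Q ⟨u, hu, v, hv, u2, v2, uv, c⟩ => by
  have := h (P.mapSurjective (f := e.toMonoidHom) e.surjective) (Q.mapSurjective (f := e.toMonoidHom) e.surjective)
    ⟨e u, ⟨mem_map_of_mem _ hu.1, mem_map_of_mem _ hu.2⟩, e v, ⟨mem_map_of_mem _ hv.1, mem_map_of_mem _ hv.2⟩,
      by rwa [MulEquiv.orderOf_eq], by rwa [MulEquiv.orderOf_eq], e.injective.ne uv, c.map e⟩
  exact Sylow.ext (map_injective e.injective (congrArg (fun R : Sylow 2 G' => (R : Subgroup G')) this))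

theorem simple_not_le_norm {L : Subgroup G} [IsSimpleGroup L] (hna : ¬ IsMulCommutative L) (P : Sylow 2 G) :
    ¬ L ≤ N[(P : Subgroup G)] := fun l => by
  obtain ⟨T⟩ : Nonempty (Sylow 2 L) := inferInstance
  have h1 : (T : Subgroup L).map L.subtype ≤ P := le_sup_left.trans (P.is_maximal' ((T.isPGroup'.map _).to_sup_of_normal_right'
    P.isPGroup' ((map_subtype_le _).trans l)) le_sup_right).le
  have h2 : (P : Subgroup G).subgroupOf L = T := T.is_maximal' P.isPGroup'.comap_subtype (map_le_iff_le_comap.1 h1)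
  exact (sylow_ne_simple hna (sylowIn_top T)).2 (h2 ▸ normalizer_eq_top_iff.2 (normal_subgroupOf_of_le_normalizer l))

theorem rank2_map {L : Subgroup G} [IsSimpleGroup L] (hna : ¬ IsMulCommutative L) (P : Sylow 2 G) [L.Normal] :
    SE.Rank2 ((P : Subgroup G) ⊓ L) := by
  obtain ⟨T, hT⟩ := Transfer.isSylowIn_iff_exists_sylow.1 (Transfer.isSylowIn_sylow_inf_normal P L)
  obtain ⟨u, hu, v, hv, u2, v2, uv, c⟩ := rank2_of_simple hna T (A := T) fun x hx _ => hx
  exact ⟨u, hT ▸ mem_map_of_mem _ hu, v, hT ▸ mem_map_of_mem _ hv, by rwa [orderOf_coe], by rwa [orderOf_coe],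
    fun e => uv (Subtype.ext e), congrArg Subtype.val c⟩

theorem CI.simple_normal [Nontrivial G] (h : CI G) (hF : fittingSubgroup G = ⊥) :
    ∃ L : Subgroup G, L.Normal ∧ IsSimpleGroup L ∧ ¬ IsMulCommutative L ∧ C[L] = ⊥ := by
  have h1 : fstarIn (⊤ : Subgroup G) = layerIn ⊤ := by rw [fstarIn_eq, fitIn_top, hF, sup_bot_eq]
  obtain ⟨L, hL⟩ : ∃ L, CompIn L (⊤ : Subgroup G) := by
    by_contra! h
    exact top_ne_bot (fstarIn_eq_bot_iff.1 (h1.trans (layerIn_eq_bot_iff.2 h)))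
  have hs : ∀ M : Subgroup G, CompIn M ⊤ → IsSimpleGroup M := fun M hM => qs_simple_of_center_eq_bot hM.qs (by
    rw [← Subgroup.map_eq_bot_iff_of_injective _ M.subtype_injective, map_subtype_center, ← le_bot_iff, ← hF, ← fitIn_top]
    exact center_le_fitIn hM.subnIn)
  have h2 : layerIn ⊤ = L := le_antisymm (layerIn_le_iff.2 fun M hM => by_contra fun r => by
    haveI := hs M hM
    haveI := hs L hL
    obtain ⟨T⟩ : Nonempty (Sylow 2 M) := inferInstance
    obtain ⟨u, hu, v, hv, u2, v2, uv, c⟩ := rank2_of_simple (qs_not_isMulCommutative hM.qs) T (A := T) fun x hx _ => hx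
    obtain ⟨P, hP⟩ := (T.isPGroup'.map M.subtype).exists_le_sylow
    refine simple_not_le_norm (qs_not_isMulCommutative hL.qs) P (le_trans ?_ (h.norm_le P ⟨u, mem_map_of_mem _ hu, v,
      mem_map_of_mem _ hv, by rwa [orderOf_coe], by rwa [orderOf_coe], fun e => uv (Subtype.ext e),
      congrArg Subtype.val c⟩ hP))
    exact ((commutator_eq_bot_iff_le_centralizer.1 (hL.commutator_eq_bot_of_ne hM fun e => r e.ge)).trans
      (centS (map_subtype_le _))).trans (cent_sub _)) hL.le_layerIn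
  have h3 : C[L] = ⊥ := by
    have := inf_centralizer_fstarIn_le_fitIn (⊤ : Subgroup G)
    rwa [h1, h2, top_inf_eq, fitIn_top, hF, le_bot_iff] at this
  exact ⟨L, normalizer_eq_top_iff.1 (top_le_iff.1 (h2 ▸ le_normalizer_layerIn (normG _))), hs L hL,
    qs_not_isMulCommutative hL.qs, h3⟩

universe u

theorem CI.odd_index (H : H2775.{u}) {G : Type u} [Group G] [Finite G] (h : CI G) {L : Subgroup G} [L.Normal]
    [IsSimpleGroup L] (hna : ¬ IsMulCommutative L) (hC : C[L] = ⊥) : Odd L.index := by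
  obtain ⟨S⟩ : Nonempty (Sylow 2 G) := inferInstance
  suffices l : (S : Subgroup G) ≤ L from Nat.not_even_iff_odd.1 fun r => S.not_dvd_index (r.two_dvd.trans (index_dvd_of_le l))
  obtain ⟨T, hT⟩ := Transfer.isSylowIn_iff_exists_sylow.1 (Transfer.isSylowIn_sylow_inf_normal S L)
  have eT : (T : Subgroup L) = (S : Subgroup G).subgroupOf L := by
    rw [← inf_subgroupOf_right, ← hT, subgroupOf, comap_map_eq_self_of_injective L.subtype_injective]
  have hi : ∀ a ∈ Z[(S : Subgroup G)], ∀ b ∈ Z[(S : Subgroup G)], a * a = 1 → b * b = 1 → Commute a b :=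
    fun a ha b hb _ _ => mem_cent.1 hb.2 a ha.1
  have sc := h.hc.sc S
  haveI := omega_comm hi
  have r2 := rank2_map hna S
  obtain ⟨h1, -, h2⟩ := struct_of H hna T (A := (omegaOne 2 Z[(S : Subgroup G)]).subgroupOf L) inferInstance (by
    obtain ⟨u, hu, -, -, u2, -⟩ := r2
    obtain ⟨z, hz, z2⟩ := exists_invol_of_pgroup (S.isPGroup'.to_le (inf_le_left.trans inf_le_left)) (meet_center_nil
      (pgroup_nil S.isPGroup') (normalGI le_top (normal_top L)) fun e => ne_one_of u2 (mem_bot.1 (e ▸ hu)))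
    exact trivgPn.2 ⟨⟨z, hz.1.2⟩, (mem_omega_iff hi).2 ⟨hz.2, mul_self_of z2⟩, fun e => ne_one_of z2 (congrArg Subtype.val e)⟩)
    (eT ▸ ⟨comap_mono sc.1, fun x hx g hg => sc.2 x hx g hg⟩)
  have h0 : ∀ u ∈ (T : Subgroup L), u * u = 1 → (u : G) ∈ C[(S : Subgroup G)] := fun u hu e =>
    ((mem_omega_iff hi).1 (h1 u hu e)).1.2
  rcases gold_elem_or hna h2 T with h3 | ⟨t, h3⟩
  · intro s hs
    obtain ⟨j, hj⟩ := S.isPGroup' ⟨s, hs⟩
    obtain ⟨g, hg⟩ := aut_inner (center_simple hna) (SE.oddCore_simple (SE.even_simple hna)) T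
      (abelian_of_cent fun a ha => mem_cent.2 fun b hb => Subtype.ext (mem_cent.1 (h0 a ha (h3 a ha)) b (eT.le hb)))
      (MulAut.conjNormal s) (j := j) (by rw [← map_pow, show s ^ 2 ^ j = 1 from congrArg Subtype.val hj, map_one])
      fun x hx => Subtype.ext (by rw [MulAut.conjNormal_apply, mem_cent.1 (h0 x hx (h3 x hx)) s hs, mul_inv_cancel_right])
    have : (g : G)⁻¹ * s ∈ C[L] := mem_cent.2 fun x hx => by
      have : s * x * s⁻¹ = g * x * (g : G)⁻¹ := congrArg Subtype.val (hg ⟨x, hx⟩)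
      calc _ = (g : G)⁻¹ * (g * x * (g : G)⁻¹) * s := by group
        _ = _ := by rw [← this]; group
    rw [hC, mem_bot, inv_mul_eq_one] at this
    exact this ▸ g.2
  · exact le_of_HN hC S.isPGroup' h3 eT (fun d hd => h.norm_le S r2 inf_le_left
      (hT ▸ norms_map L.subtype le_rfl (mem_map_of_mem _ hd))) h0

/-- Structure modulo the solvable radical. -/
theorem ci_struct (H : H2775.{u}) {G : Type u} [Group G] [Finite G] (hns : ¬ Group.IsSolvable G) (R : Subgroup G) [R.Normal]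
    (hR : Group.IsSolvable R) (hm : ∀ N : Subgroup G, N.Normal → Group.IsSolvable N → N ≤ R) (h : CI (G ⧸ R)) :
    ∃ L : Subgroup (G ⧸ R), L.Normal ∧ IsSimpleGroup L ∧ ¬ IsMulCommutative L ∧ C[L] = ⊥ ∧ Odd L.index := by
  have hs : ∀ N : Subgroup G, R ≤ N → Group.IsSolvable (N.map (QuotientGroup.mk' R)) → Group.IsSolvable N := fun N l _ =>
    haveI := isog_sol ⟨(subgroupOfEquivOfLe l).symm⟩ hR
    Group.isSolvable_of_ker_le_range (R.subgroupOf N).subtype ((QuotientGroup.mk' R).subgroupMap N) fun x hx =>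
      ⟨⟨x, (QuotientGroup.eq_one_iff (N := R) x.1).1 (congrArg Subtype.val hx)⟩, rfl⟩
  haveI : Nontrivial (G ⧸ R) := not_subsingleton_iff_nontrivial.1 fun _ => hns
    (Group.isSolvable_of_ker_le_range R.subtype (QuotientGroup.mk' R) (by simp))
  obtain ⟨L, _, _, h1, h2⟩ := h.simple_normal (by
    have e := map_comap_eq_self_of_surjective (QuotientGroup.mk'_surjective R) (fittingSubgroup (G ⧸ R))
    rw [← e, Subgroup.map_eq_bot_iff, QuotientGroup.ker_mk']
    exact hm _ inferInstance (hs _ (QuotientGroup.le_comap_mk' R _) (by rw [e]; infer_instance)))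
  exact ⟨L, ‹_›, ‹_›, h1, h2, h.odd_index H h1 h2⟩

end Cfsg.Agent.LieM
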