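import Cfsg.Agent.FG.PiClosed
import Cfsg.Agent.LieM.MinCx
import Cfsg.Agent.LieM.Gold9
import Cfsg.Agent.Sz.Torus
import Cfsg.Agent.Transfer.Frobenius
import Cfsg.Agent.Transfer.Abelian
import Mathlib.Tactic.Group

/-! `π`-closure criteria (helper2): `PiHom` passes to subgroups and quotients (`piHom_sub`, `piHom_quo`), the induction
`closed_induction`; inverted elements (`pi_inv`, `sz_real`, `three_of_four`, `tis_inv`, `l2_inv`). -/
set_option autoImplicit false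
set_option linter.unusedSectionVars false
namespace Cfsg.Agent.LieM
open Cfsg Subgroup Cfsg.Agent.BG Cfsg.Agent.FG
open scoped MatrixGroups

universe u
variable {G : Type*} [Group G] [Finite G] {π : Set ℕ} {x y : G}

theorem piHom_sub (h : PiHom π G) (H : Subgroup G) : PiHom π H := fun q hq hπ Q hQ x hx h1 => by
  have h2 := h q hq hπ (Q.map H.subtype) (hQ.map _) x (le_normalizer_map _ (mem_map_of_mem _ hx)) (piElt_map H.subtype h1)
  exact mem_cent.2 fun y hy => Subtype.ext (mem_cent.1 h2 _ (mem_map_of_mem _ hy))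

theorem piHom_map {G' : Type*} [Group G'] {f : G →* G'} (hf : Function.Surjective f) (h : PiHom π G) : PiHom π G' :=
  fun q hq hπ Q hQ x hx h1 => by
  haveI := Fact.mk hq
  haveI := Finite.of_surjective f hf
  obtain ⟨R, hR⟩ := Sylow_exists q (Q.comap f)
  have e := pHall_map f hR
  rw [map_comap_eq_self_of_surjective hf] at e
  have e : R.map f = Q := Hall_eq_of_le e (pHall_id (pgroup_iff.1 hQ)) e.le
  obtain ⟨g, rfl⟩ := hf x
  have hg : g ∈ N[Q.comap f] := le_normalizer_comap _ hx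
  rw [← Frattini_arg (M := N[Q.comap f]) ⟨le_normalizer, le_rfl⟩ hR] at hg
  obtain ⟨k, hk, n, hn, rfl⟩ := (mem_sup_norml inf_le_left).1 hg
  rw [← e, comap_map_eq, sup_comm] at hk
  obtain ⟨l, hl, r, hr, rfl⟩ := (mem_sup_norml (le_top.trans (normal_top f.ker).norm)).1 hk
  have h2 := h q hq hπ R hR.pg _ (constt_mem π (mul_mem (le_normalizer hr) hn.2)) (p_elt_constt π _)
  rw [mul_assoc, map_mul, MonoidHom.mem_ker.1 hl, one_mul] at h1 ⊢
  rw [← constt_p_elt h1, ← map_constt, ← e]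
  exact mem_cent.2 (by rintro _ ⟨y, hy, rfl⟩; rw [← map_mul, ← map_mul, mem_cent.1 h2 y hy])

/-- The `π`-elements form a subgroup. -/
abbrev Cl (π : Set ℕ) (G : Type*) [Group G] : Prop := ∃ K : Subgroup G, ∀ x, x ∈ K ↔ PiElt π x

theorem cl_of_pi (h : ∀ x : G, PiElt π x) : Cl π G := ⟨⊤, fun x => ⟨fun _ => h x, fun _ => trivial⟩⟩

theorem cl_of_pi' (h : ∀ x : G, PiElt πᶜ x) : Cl π G :=
  ⟨⊥, fun x => ⟨fun e => mem_bot.1 e ▸ p_elt_one π, fun e => mem_bot.2 (p_elt_eq_one e (h x))⟩⟩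

theorem cl_of_comm (h : IsMulCommutative G) : Cl π G :=
  ⟨⟨⟨⟨{x | PiElt π x}, fun {a b} ha hb => p_eltM (h.is_comm.comm a b) ha hb⟩, p_elt_one π⟩, fun ha => p_eltV.2 ha⟩,
    fun _ => Iff.rfl⟩

theorem cl_ext (h : PiHom π G) (K : Subgroup G) [K.Normal] (hK : Cl π K) (hQ : Cl π (G ⧸ K)) : Cl π G := by
  have h1 := piClosed_iff_top.1 hQ
  set L := piCoreOf π (⊤ : Subgroup (G ⧸ K))
  haveI : L.Normal := (pcore_normal _ _).normal
  have hf := QuotientGroup.mk'_surjective K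
  have h2 : K ≤ L.comap (QuotientGroup.mk' K) := (QuotientGroup.ker_mk' K).ge.trans (ker_le_comap _ _)
  refine piClosed_iff_top.2 (h.closed_step (normal_top (L.comap (QuotientGroup.mk' K)))
    (h.closed_step ((normal_top K).subl h2 le_top) (piClosed_iff.1 hK) (.inl ?_)) (.inr ?_))
  · conv => enter [2, 1]; rw [← QuotientGroup.ker_mk' K]
    rw [relIndex_ker, map_comap_eq_self_of_surjective hf]
    exact h1.pi
  · rw [relIndex_top_right, index_comap_of_surjective _ hf, ← relIndex_top_right]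
    exact h1.idx

theorem closed_induction (P : ∀ (G : Type u) [Group G] [Finite G], Prop)
    (hsub : ∀ (G : Type u) [Group G] [Finite G] (H : Subgroup G) [H.Normal], H ≠ ⊤ → P G → P H ∨ Cl π H)
    (hquo : ∀ (G : Type u) [Group G] [Finite G] (N : Subgroup G) [N.Normal], P G → P (G ⧸ N))
    (hs : ∀ (G : Type u) [Group G] [Finite G] [IsSimpleGroup G], ¬ IsMulCommutative G → PiHom π G → P G → Cl π G)
    (G : Type u) [Group G] [Finite G] (h0 : PiHom π G) (h : P G) : Cl π G := by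
  induction hn : Nat.card G using Nat.strong_induction_on generalizing G with
  | _ n ih =>
  subst hn
  by_cases hc : IsMulCommutative G
  · exact cl_of_comm hc
  rcases subsingleton_or_nontrivial G with hG | hG
  · exact absurd ⟨⟨fun a b => Subsingleton.elim _ _⟩⟩ hc
  by_cases hG : IsSimpleGroup G
  · exact hs G hc h0 h
  obtain ⟨N, hN, hb, ht⟩ : ∃ N : Subgroup G, N.Normal ∧ N ≠ ⊥ ∧ N ≠ ⊤ := by
    by_contra! h2
    exact hG ⟨fun N hN => or_iff_not_imp_left.2 (h2 N hN)⟩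
  refine cl_ext h0 N ((hsub G N ht h).elim (fun h1 => ih _ (by simpa using proper_card (lt_top_iff_ne_top.2 ht)) N
    (piHom_sub h0 N) h1 rfl) id) (ih _ ?_ _ (piHom_map (QuotientGroup.mk'_surjective N) h0) (hquo G N h) rfl)
  rw [card_eq_card_quotient_mul_card_subgroup N]
  exact lt_mul_of_one_lt_right Nat.card_pos ((one_lt_card_iff_ne_bot N).2 hb)

theorem norm_of_inv (e : x * y * x⁻¹ = y⁻¹) : x ∈ N[zpowers y] := by rw [BG.mem_norm, cj_zpowers, e, zpowers_inv]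

theorem eq_one_of_inv (ho : Odd (orderOf y)) (e : x * y * x⁻¹ = y⁻¹) (c : x * y = y * x) : y = 1 :=
  Invol.eq_one_of_odd_of_inverts_of_commute ho e c.symm

theorem pi_inv (e : x * y * x⁻¹ = y⁻¹) (hx : PiElt π x) (hy : PiElt π y) : PiGrp π (zpowers x ⊔ zpowers y : Subgroup G) :=
  pgroupY (.inl (zpowers_le.2 (norm_of_inv e))) (p_elt_zpowers.2 hx) (p_elt_zpowers.2 hy)

theorem sz_real (h : Lie.IsoSuzuki G) (ho : Odd (orderOf y)) (h1 : y ≠ 1) : ∃ t : G, orderOf t = 2 ∧ t * y * t⁻¹ = y⁻¹ := by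
  obtain ⟨F, _, _, m, hm, hF, ⟨e⟩⟩ := h
  let _ := Sz.titsOfCard hm hF
  let _ := Sz.lieRep (Sz.titsOfCard_θ hm hF)
  let _ := Sz.repOfEquiv (F := F) e
  have h2 : 2 ∣ #N[C1[y]] := by
    rw [show #N[C1[y]] = _ from Sz.card_normalizer_centralizer (F := F) h1 ho]
    exact Dvd.dvd.mul_right (dvd_pow_self 2 (by split_ifs <;> omega)) _
  obtain ⟨⟨t, ht⟩, t2⟩ := exists_prime_orderOf_dvd_card' 2 h2
  rw [← orderOf_coe] at t2
  have t3 : t * t = 1 := by rw [← sq]; exact AB.sq_of_ord t2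
  exact ⟨t, t2, by rw [← Sz.conj_eq_inv F h1 ho (AB.ne_of_ord t2) t3 ht (cent1_self y), inv_eq_of_mul_eq_one_right t3]⟩

theorem three_of_four [IsSimpleGroup G] (hna : ¬ IsMulCommutative G) (h8 : ¬ 8 ∣ Nat.card G) :
    ∃ T : Subgroup G, IsPGroup 2 T ∧ ∃ y ∈ N[T], PiElt {3} y ∧ y ∉ C[T] := by
  obtain ⟨S⟩ : Nonempty (Sylow 2 G) := inferInstance
  obtain ⟨T, q, k, g, hT, hq, q2, e, h1, h2⟩ := Transfer.exists_prime_pow_not_centralizer S (AB.not_compl_simple hna)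
  have pT := S.isPGroup'.to_le hT
  haveI := Fact.mk hq
  obtain rfl | q3 := eq_or_ne q 3
  · exact ⟨T, pT, g, h1, (pnat_pow_self hq k).of_dvd (orderOf_dvd_of_pow_eq_one e), h2⟩
  have h5 : 5 ≤ q := by
    have := hq.two_le
    have : q ≠ 4 := by rintro rfl; exact absurd hq (by decide)
    omega
  obtain ⟨j, hj⟩ := IsPGroup.iff_card.1 pT
  have h4 : #T ≤ 4 := by
    have : j ≤ 2 := not_lt.1 fun h => h8 (((pow_dvd_pow 2 h).trans (hj ▸ dvd_rfl)).trans (card_subgroup_dvd_card T))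
    exact hj.le.trans (Nat.pow_le_pow_right two_pos this)
  have h6 := Transfer.card_modEq_card_inf_centralizer (A := zpowers g) (Q := T)
    (pgroup_iff.2 (p_elt_zpowers.2 ((pnat_pow_self hq k).of_dvd (orderOf_dvd_of_pow_eq_one e)))) (zpowers_le.2 h1)
  have h7 := card_le_of_le (inf_le_left : T ⊓ C[zpowers g] ≤ T)
  have h8 := eq_of_le_of_card_ge inf_le_left (Nat.ModEq.eq_of_lt_of_lt h6 (by omega) (by omega)).le
  exact (h2 (zpowers_le.1 (cents_symm (h8.ge.trans inf_le_right)))).elim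

/-- A prime power subgroup with a faithful odd order automizer inverted by an involution. -/
def IA (q : ℕ) (G : Type*) [Group G] : Prop := ∃ (Q : Subgroup G) (k t : G), IsPGroup q Q ∧ k ∈ N[Q] ∧ k ≠ 1 ∧
  Odd (orderOf k) ∧ orderOf t = 2 ∧ t * k * t⁻¹ = k⁻¹ ∧ ∀ j ∈ zpowers k, j ∈ C[Q] → j = 1

theorem IA.pi {q : ℕ} (h : IA q G) (hq : q.Prime) (hπ : q ∈ π) (h0 : PiHom πᶜ G) :
    ∃ k t : G, k ≠ 1 ∧ PiElt π k ∧ Odd (orderOf k) ∧ orderOf t = 2 ∧ t * k * t⁻¹ = k⁻¹ := by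
  obtain ⟨Q, k, t, h1, h2, h3, h4, h5, h6, h7⟩ := h
  exact ⟨k, t, h3, by simpa using constt1P.1 (h7 _ (constt_mem_zpowers πᶜ k)
    (h0 q hq (fun h => h hπ) Q h1 _ (constt_mem _ h2) (p_elt_constt _ _))), h4, h5, h6⟩

theorem tis_inv [IsSimpleGroup G] (hna : ¬ IsMulCommutative G) (h : TIS G) : IA 2 G := by
  obtain ⟨S⟩ : Nonempty (Sylow 2 G) := inferInstance
  obtain ⟨t, h⟩ := h.hyp hna S
  obtain ⟨⟨k, hk⟩, k1⟩ := ne_bot_iff_exists_ne_one.1 h.K_ne_bot
  obtain ⟨⟨u, hu⟩, u1⟩ := ne_bot_iff_exists_ne_one.1 (AB.sylow_ne_simple hna (sylowIn_top S)).1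
  exact ⟨S, k, t, S.isPGroup', mem_norm_of_cj_le (BG.cj_le_iff.2 fun x hx => mem_cj_inv.2 (h.K_conj_Q k hk x hx)),
    by simpa using k1, Rank1.Setup.odd_orderOf h.setup (Suz.Kg_le _ _ hk), Rank1.Setup.orderOf_t h.setup, h.K_inv hk,
    fun j hj hc => not_not.1 fun j1 => u1 (Subtype.ext (h.K_fpf (zpowers_le.2 hk hj) j1 hu (mem_cent.1 hc u hu)))⟩

theorem l2_inv {F : Type} [Field F] [Fintype F] {n : ℕ} (hn : 1 ≤ n)
    (hF : Fintype.card F = 3 ^ (2 * n + 1)) (e : G ≃* PSL(2, F)) : IA 3 G := by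
  have h4 : Fintype.card F % 4 = 3 := by rw [hF, pow_succ, pow_mul, Nat.mul_mod, Nat.pow_mod]; simp
  have h9 : 3 ^ 3 ≤ Fintype.card F := hF ▸ Nat.pow_le_pow_right (by norm_num) (by omega)
  obtain ⟨u, s, K, h⟩ := AB.psl_bsw (F := F) fun h2 => by
    have := FiniteField.even_card_of_char_two (F := F) ((CharP.ringChar_of_prime_eq_zero Nat.prime_two h2))
    omega
  obtain ⟨Q, D, h1, h2, -, h3, h5, -, h6⟩ := (AB.bsw_equiv h e).exists_QD
  have h7 := Classical.card_PSL2_mul (F := F)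
  rw [← Nat.card_congr e.toEquiv, Nat.card_eq_fintype_card (α := F), Nat.gcd_eq_left (by omega), h1] at h7
  have h8 : #Q = Fintype.card F := by
    have mono : StrictMono fun a : ℕ => (a + 1) * (a + 2) * a := strictMono_nat_of_lt_succ fun a => by nlinarith
    obtain ⟨b, hb⟩ : ∃ b, Fintype.card F = b + 1 := ⟨Fintype.card F - 1, by omega⟩
    rw [← h3, hb] at h7 ⊢
    exact congrArg (· + 1) (mono.injective (by simp only [Nat.add_sub_cancel] at h7 ⊢; linarith))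
  have h0 : D ≠ ⊥ := by rintro rfl; rw [card_bot] at h3; omega
  obtain ⟨t, t2, -, h6, -⟩ := h6 h0
  obtain ⟨⟨k, hk⟩, k1⟩ := ne_bot_iff_exists_ne_one.1 h0
  obtain ⟨⟨y, hy⟩, y1⟩ := ne_bot_iff_exists_ne_one.1 (show Q ≠ ⊥ by rintro rfl; rw [card_bot] at h8; omega)
  haveI := Fact.mk Nat.prime_three
  refine ⟨Q, k, t, pgroup_of_card (h8.trans hF), h5.ler hk, by simpa using k1,
    Odd.of_dvd_nat (Nat.odd_iff.2 (by omega) : Odd #D) (D.orderOf_dvd_natCard hk), t2, h6 k hk, fun j hj hc => ?_⟩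
  exact mem_bot.1 (h5.inf ▸ ⟨h2 y hy (by simpa using y1) ▸ mem_cent1.2 (mem_cent.1 hc y hy).symm, zpowers_le.2 hk hj⟩)

end Cfsg.Agent.LieM
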