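import Cfsg.Agent.LieM.PiCl
import Mathlib.Tactic.Group

/-! `π`-closure criteria II (helper2): `cl_of_three` (`2 ∈ π`, order prime to `3`), `cl_of_two_closed`, the Hall containment
property `HallC` and `cl_of_hallC`; `hom_of_cl` (the easy converse). -/
set_option autoImplicit false
set_option linter.unusedSectionVars false
namespace Cfsg.Agent.LieM
open Cfsg Subgroup Cfsg.Agent.BG Cfsg.Agent.FG
open scoped MatrixGroups

universe u
variable {G : Type*} [Group G] [Finite G] {π : Set ℕ} {x y : G}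

theorem hom_of_cl (h : Cl π G) (H : Subgroup G) (h1 : PiGrp πᶜ H) : PiNat πᶜ (C[H].relIndex N[H]) := by
  have h := piClosed_iff_top.1 h
  have n := pcore_normal π (⊤ : Subgroup G)
  have h2 : N[H] ⊓ piCoreOf π ⊤ ≤ C[H] := commG1.1 (eq_bot_iff.2 ((le_inf ((commSg _ inf_le_right).trans
    (commg_subl (le_top.trans n.norm))) (commg_subr inf_le_left)).trans (pgroup_TI h.pi h1).le))
  refine PiNat.of_dvd h.idx ((relIndex_dvd_of_le_left _ h2).trans ?_)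
  rw [inf_relIndex_left]
  exact relIndex_dvd_of_norm n.norm le_top

theorem sz_pi (hs : Lie.IsoSuzuki G) (h2 : 2 ∈ π) (h0 : PiHom π G) (x : G) : PiElt π x := fun r hr hd => by
  by_contra hπ
  haveI := Fact.mk hr
  have ho : Odd (orderOf (constt {r} x)) := pnat_odd.1 (pi_pnat (p_elt_constt _ x) (by rintro (rfl : r = 2); exact hπ h2))
  have y1 := constt_ne_one hr (Set.mem_singleton r) hd
  obtain ⟨t, t2, e⟩ := sz_real hs ho y1
  exact y1 (eq_one_of_inv ho e (mem_cent.1 (h0 r hr hπ _ (pgroup_iff.2 (p_elt_zpowers.2 (p_elt_constt _ x))) t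
    (norm_of_inv e) (pi_pnat (piElt_of_pow (k := 1) t2) h2)) _ (mem_zpowers _)).symm)

theorem not_three_quo (h3 : ¬ 3 ∣ Nat.card G) (N : Subgroup G) [N.Normal] : ¬ 3 ∣ Nat.card (G ⧸ N) :=
  fun h => h3 (h.trans (card_quotient_dvd_card N))

theorem cl_of_three (H4 : H2754.{u}) {G : Type u} [Group G] [Finite G] (h2 : 2 ∈ π) (h3 : ¬ 3 ∣ Nat.card G)
    (h0 : PiHom π G) : Cl π G :=
  closed_induction (fun G _ _ => ¬ 3 ∣ Nat.card G) (fun _ _ _ H _ _ h => .inl fun h1 => h (h1.trans (card_subgroup_dvd_card H)))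
    (fun _ _ _ N _ h => not_three_quo h N) (fun _ _ _ _ hna h0 h => cl_of_pi (sz_pi (sz_of_three H4 hna h) h2 h0)) G h0 h3

/-- All `π`-subgroups are `2`-closed, in the form needed. -/
def TC (π : Set ℕ) (G : Type*) [Group G] : Prop := ∀ H : Subgroup G, PiGrp π H → ∃ P, SylowIn 2 P H ∧ P ⊴ H

theorem TC.sub (h : TC π G) (K : Subgroup G) : TC π K := fun H hH => by
  obtain ⟨P, h1, h2⟩ := h _ (pgroup_map K.subtype hH)
  have e := map_subgroupOf_eq_of_le (h1.le.trans (map_subtype_le H))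
  rw [← e] at h1 h2
  exact ⟨_, (pHall_map_inj K.subtype_injective).1 h1, (normal_map_inj K.subtype_injective).1 h2⟩

theorem TC.quo (h : TC π G) (N : Subgroup G) [N.Normal] : TC π (G ⧸ N) := fun H hH => by
  rw [← map_comap_eq_self_of_surjective (QuotientGroup.mk'_surjective N) H] at hH ⊢
  obtain ⟨K, -, h1, h2⟩ := exists_lift_piGrp _ hH
  obtain ⟨P, h3, h4⟩ := h K h1
  exact h2 ▸ ⟨_, pHall_map _ h3, normal_map _ h4⟩

theorem TC.inv (h : TC π G) (h2 : 2 ∈ π) (hx : PiElt {2} x) (hy : PiElt π y) (ho : Odd (orderOf y))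
    (e : x * y * x⁻¹ = y⁻¹) : y = 1 := by
  obtain ⟨P, h1, h3⟩ := h _ (pi_inv e (pi_pnat hx h2) hy)
  have h4 : x ∈ P := mem_normal_Hall h1 h3 (mem_sup_left (mem_zpowers x)) hx
  have h5 : y * y ∈ P := by
    have := mul_mem (conj_mem_of_norm (h3.norm (mem_sup_right (mem_zpowers y))) h4) (inv_mem h4)
    rwa [show y * x * y⁻¹ * x⁻¹ = y * (x * y * x⁻¹)⁻¹ by group, e, inv_inv] at this
  have h6 := p_elt_eq_one (mem_p_elt h1.pi h5) (p_eltM (Commute.refl y) (pnat_odd.2 ho) (pnat_odd.2 ho))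
  exact p_elt_eq_one ((pnat_pow_self Nat.prime_two 1).of_dvd (orderOf_dvd_of_pow_eq_one (by rwa [pow_one, sq])))
    (pnat_odd.2 ho)

theorem TC.not_IA (h : TC π G) (h2 : 2 ∈ π) (h0 : PiHom πᶜ G) {q : ℕ} (hq : q.Prime) (hπ : q ∈ π) : ¬ IA q G := fun hi =>
  let ⟨_, _, k1, h1, h3, h4, e⟩ := hi.pi hq hπ h0
  k1 (h.inv h2 (piElt_of_pow (k := 1) h4) h1 h3 e)

theorem TC.not_three (H4 : H2754.{u}) (H5 : H2755.{u}) {G : Type u} [Group G] [Finite G] [IsSimpleGroup G]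
    (hna : ¬ IsMulCommutative G) (h : TC π G) (h2 : 2 ∈ π) (h0 : PiHom πᶜ G) : 3 ∉ π := fun h3 => by
  rcases sz_or_l2 H4 H5 hna (not_S3_of_inv fun x y ⟨_, hx⟩ ⟨k, hy⟩ => h.inv h2 (piElt_of_pow hx)
    (pi_pnat (hy ▸ pnat_pow_self Nat.prime_three k) h3) (hy ▸ Odd.pow (by decide))) with hs | ⟨F, _, _, n, hn, hF, ⟨e⟩⟩
  · exact h.not_IA h2 h0 Nat.prime_two h2 (tis_inv hna (tis_sz hs))
  · exact h.not_IA h2 h0 Nat.prime_three h3 (l2_inv hn hF e)

theorem TC.eight (H4 : H2754.{u}) (H5 : H2755.{u}) {G : Type u} [Group G] [Finite G] [IsSimpleGroup G]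
    (hna : ¬ IsMulCommutative G) (h : TC π G) (h2 : 2 ∈ π) (h0 : PiHom πᶜ G) : 8 ∣ Nat.card G := by
  by_contra h8
  obtain ⟨T, hT, y, h1, h3, h4⟩ := three_of_four hna h8
  exact h4 (h0 2 Nat.prime_two (fun h => h h2) T hT y h1 (pi_pnat h3 (h.not_three H4 H5 hna h2 h0)))

theorem cl_of_two_closed (H4 : H2754.{u}) (H5 : H2755.{u}) {G : Type u} [Group G] [Finite G] (h2 : 2 ∈ π) (h : TC π G)
    (h0 : PiHom πᶜ G) : Cl πᶜ G := by
  refine closed_induction (fun G _ _ => TC π G) (fun _ _ _ H _ _ h => .inl (h.sub H)) (fun _ _ _ N _ h => h.quo N)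
    (fun G _ _ _ hna h0 h => False.elim ?_) G h0 h
  have h3 := h.not_three H4 H5 hna h2 h0
  have h4 : ¬ Cfsg.Involves (Equiv.Perm (Fin 4)) G := not_S4_of fun T hT x _ y hy _ ⟨k, hk⟩ _ =>
    mem_of_constt {3} (h0 2 Nat.prime_two (fun h => h h2) T hT _ (constt_mem _ hy) (pi_pnat (p_elt_constt _ y) h3))
      (mem_of_pow_coprime_orderOf (m := 3 ^ k) (consttX _ y _ ▸ constt_mem _ hk)
        (pnat_coprime (pnat_pow_self Nat.prime_three k) (p_elt_constt _ y)))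
  rcases gold_cases ((H4 hna).1 h4) with hs | ⟨F, _, _, hF, -, ⟨e⟩⟩ | ⟨F, _, _, t, K, j⟩
  · exact h.not_IA h2 h0 Nat.prime_two h2 (tis_inv hna hs)
  · exact not_eight_dvd_psl hF (Nat.card_congr e.toEquiv ▸ h.eight H4 H5 hna h2 h0)
  haveI := j.simple
  obtain ⟨e⟩ := j.iso
  exact not_eight_dvd_psl j.md (Nat.card_congr e.toEquiv ▸ (h.sub K).eight H4 H5 j.ncomm h2 (piHom_sub h0 K))

/-- Every `π`-subgroup lies in a Hall `π`-subgroup. -/
def HallC (π : Set ℕ) (G : Type*) [Group G] : Prop := ∀ K : Subgroup G, PiGrp π K → ∃ H, IsPiHallOf π H ⊤ ∧ K ≤ H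

theorem HallC.sub (h : HallC π G) (N : Subgroup G) [N.Normal] : HallC π N := fun K hK => by
  obtain ⟨H, h1, h2⟩ := h _ (pgroup_map N.subtype hK)
  have h3 := pHall_subgroupOf le_rfl (Hall_setI_normal (normal_top N) h1)
  rw [subgroupOf_self, inf_subgroupOf_right] at h3
  exact ⟨_, h3, map_le_iff_le_comap.1 h2⟩

theorem HallC.quo (h : HallC π G) (N : Subgroup G) [N.Normal] : HallC π (G ⧸ N) := fun K hK => by
  have hf := QuotientGroup.mk'_surjective N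
  rw [← map_comap_eq_self_of_surjective hf K] at hK ⊢
  obtain ⟨L, -, h1, h2⟩ := exists_lift_piGrp _ hK
  obtain ⟨H, h3, h4⟩ := h L h1
  exact ⟨_, map_top_of_surjective _ hf ▸ pHall_map _ h3, h2 ▸ map_mono h4⟩

theorem HallC.sz [IsSimpleGroup G] (hna : ¬ IsMulCommutative G) (h : HallC π G) (hs : Lie.IsoSuzuki G) (h2 : 2 ∈ π)
    (h0 : PiHom πᶜ G) (x : G) : PiElt π x := by
  obtain ⟨k, t, k1, h1, ho, t2, e⟩ := (tis_inv hna (tis_sz hs)).pi Nat.prime_two h2 h0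
  have ht : PiElt {2} t := piElt_of_pow (k := 1) t2
  obtain ⟨H, h3, h4⟩ := h _ (pi_inv e (pi_pnat ht h2) h1)
  obtain ⟨S, h5, h6⟩ := Sylow_superset (le_sup_left.trans h4) (pgroup_iff.2 (p_elt_zpowers.2 ht))
  obtain ⟨S, rfl⟩ := sylow_of_sylowIn_top (subHall_Sylow h3 h2 h5)
  by_cases h7 : H ≤ N[(S : Subgroup G)]
  · have h8 := mul_mem (conj_mem_of_norm (h7 (h4 (mem_sup_right (mem_zpowers k)))) (h6 (mem_zpowers t)))
      (inv_mem (h6 (mem_zpowers t)))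
    rw [show k * t * k⁻¹ * t⁻¹ = k * (t * k * t⁻¹)⁻¹ by group, e, inv_inv] at h8
    have h9 := p_elt_eq_one (mem_p_elt h5.pi h8) (p_eltM (Commute.refl k) (pnat_odd.2 ho) (pnat_odd.2 ho))
    exact (k1 (p_elt_eq_one ((pnat_pow_self Nat.prime_two 1).of_dvd (orderOf_dvd_of_pow_eq_one (by rwa [pow_one, sq])))
      (pnat_odd.2 ho))).elim
  obtain ⟨F, _, _, m, hm, hF, ⟨e⟩⟩ := hs
  let _ := Sz.titsOfCard hm hF
  let _ := Sz.lieRep (Sz.titsOfCard_θ hm hF)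
  obtain ⟨_, hU⟩ := @Sz.exists_rep_U_eq F _ _ G _ (Sz.repOfEquiv (F := F) e) _ S
  exact mem_p_elt h3.pi (Sz.eq_top_of_U_le (hU ▸ h5.le) (by rwa [← Sz.normalizer_U, hU]) ▸ mem_top x)

theorem cl_of_hallC (H4 : H2754.{u}) {G : Type u} [Group G] [Finite G] (h : HallC π G) (h3 : ¬ 3 ∣ Nat.card G)
    (h0 : PiHom πᶜ G) : Cl πᶜ G := by
  by_cases h2 : 2 ∈ π
  · exact closed_induction (fun G _ _ => ¬ 3 ∣ Nat.card G ∧ HallC π G)
      (fun _ _ _ H _ _ h => .inl ⟨fun h1 => h.1 (h1.trans (card_subgroup_dvd_card H)), h.2.sub H⟩)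
      (fun _ _ _ N _ h => ⟨not_three_quo h.1 N, h.2.quo N⟩)
      (fun _ _ _ _ hna h0 h => cl_of_pi' fun x => by simpa using h.2.sz hna (sz_of_three H4 hna h.1) h2 h0 x) G h0 ⟨h3, h⟩
  · exact cl_of_three H4 h2 h3 h0

end Cfsg.Agent.LieM
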