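import Cfsg.Agent.LieM.PiCl2
import Cfsg.Agent.S0877
import Cfsg.Agent.FG.HallSym4
import Mathlib.Tactic.Group

/-! `π`-closure criteria III (helper2): in a `D_π`-group (`DP`) whose `π`-local subgroups are `π'`-closed a Hall `π`-subgroup
controls its fusion (`DP.fusion`); `cl_of_DP`. -/
set_option autoImplicit false
set_option linter.unusedSectionVars false
namespace Cfsg.Agent.LieM
open Cfsg Subgroup Cfsg.Agent.BG Cfsg.Agent.FG

universe u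
variable {G : Type*} [Group G] [Finite G] {π : Set ℕ} {x y : G} {A H K : Subgroup G} {p : ℕ}

/-- `H` is a Hall `π`-subgroup containing a conjugate of each `π`-subgroup. -/
def DP (π : Set ℕ) (H : Subgroup G) : Prop := IsPiHallOf π H ⊤ ∧ ∀ K : Subgroup G, PiGrp π K → ∃ g, K ≤ cj g H

theorem dp_of (h : IsDPiGroup π G) : ∃ H : Subgroup G, DP π H := by
  obtain ⟨H, h1⟩ := HS.E_of_D h
  refine ⟨H, pHall_top.2 h1, fun K hK => ?_⟩
  obtain ⟨L, h2, h3⟩ := HS.exists_hall_ge h hK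
  obtain ⟨g, rfl⟩ := h H L (HS.maximal_of_hall h1) (HS.maximal_of_hall h3)
  exact ⟨g, h2⟩

theorem DP.hall (h : DP π H) (g : G) : IsPiHallOf π (cj g H) ⊤ := cj_top g ▸ pHallJ g h.1

theorem DP.hallC (h : DP π H) : HallC π G := fun K hK => let ⟨g, h1⟩ := h.2 K hK; ⟨_, h.hall g, h1⟩

theorem DP.cj (h : DP π H) (g : G) : DP π (cj g H) :=
  ⟨h.hall g, fun K hK => let ⟨k, h1⟩ := h.2 K hK; ⟨k * g⁻¹, by rwa [cj_mul, cj_inv_cj]⟩⟩

theorem DP.eq (h : DP π H) (h' : DP π K) : ∃ g, K = BG.cj g H :=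
  let ⟨g, h1⟩ := h.2 K h'.1.pi; ⟨g, Hall_eq_of_le h'.1 (h.hall g) h1⟩

theorem DP.quo (h : DP π H) (N : Subgroup G) [N.Normal] : DP π (H.map (QuotientGroup.mk' N)) := by
  have hf := QuotientGroup.mk'_surjective N
  refine ⟨map_top_of_surjective _ hf ▸ pHall_map _ h.1, fun K hK => ?_⟩
  rw [← map_comap_eq_self_of_surjective hf K] at hK ⊢
  obtain ⟨L, -, h1, h2⟩ := exists_lift_piGrp _ hK
  obtain ⟨g, h3⟩ := h.2 L h1
  exact ⟨_, h2 ▸ (map_mono h3).trans (map_cj _ g H).le⟩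

/-- The `π`-local subgroups are `π'`-closed. -/
def LC (π : Set ℕ) (G : Type*) [Group G] : Prop :=
  ∀ A : Subgroup G, A ≠ ⊥ → PiGrp π A → IsPiHallOf πᶜ (piCoreOf πᶜ N[A]) N[A]

theorem LC.dec (h : LC π G) (h0 : A ≠ ⊥) (hA : PiGrp π A) :
    ∃ O L, O ≤ C[A] ∧ PiGrp πᶜ O ∧ IsPiHallOf π L N[A] ∧ Sdprod O L N[A] := by
  obtain ⟨L, h1, h2⟩ := sdprod_Hall_exists (h A h0 hA) (pcore_normal _ _)
  exact ⟨_, L, cents_symm (normal_pi_cent (normalG A) (pcore_normal _ _) hA (pcore_pgroup _ _)), pcore_pgroup _ _,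
    compl_compl π ▸ h2, h1⟩

theorem sd_mem' {O L M : Subgroup G} (h : Sdprod O L M) (hx : x ∈ M) : ∃ l ∈ L, ∃ o ∈ O, x = l * o := by
  obtain ⟨o, ho, l, hl, e⟩ := h.mem (inv_mem hx)
  exact ⟨_, inv_mem hl, _, inv_mem ho, by rw [← mul_inv_rev, ← e, inv_inv]⟩

theorem LC.conj [Fact p.Prime] (h : LC π G) (hp : p ∈ π) (h0 : A ≠ ⊥) (hA : IsPGroup p A) (h1 : DP π H) (h2 : DP π K)
    (l1 : A ≤ H) (l2 : A ≤ K) : ∃ c ∈ C[A], K = cj c H := by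
  induction A using WellFoundedGT.induction generalizing H K with
  | _ A ih =>
  obtain ⟨O, L, hO, -, hL, sd⟩ := h.dec h0 (pi_pgroup hA hp)
  obtain ⟨g, h3⟩ := h1.2 L hL.pi
  have h4 := h1.cj g
  obtain ⟨J, eJ⟩ : ∃ J, J = cj g H := ⟨_, rfl⟩
  rw [← eJ] at h3 h4
  have h5 : A ≤ J := (normal_sub_Hall hL (normalG A) (pi_pgroup hA hp)).trans h3
  suffices key : ∀ H, DP π H → A ≤ H → ∃ c ∈ C[A], J = cj c H by
    obtain ⟨c, hc, e⟩ := key H h1 l1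
    obtain ⟨d, hd, e'⟩ := key K h2 l2
    exact ⟨d⁻¹ * c, mul_mem (inv_mem hd) hc, by rw [cj_mul, ← e, e', cj_inv_cj]⟩
  clear eJ
  intro H h1 l1
  obtain ⟨P, hP, l3⟩ := Sylow_superset l1 hA
  rcases l3.eq_or_lt with rfl | l3
  · obtain ⟨g, e⟩ := h1.eq h4
    have h6 : cj g⁻¹ A ≤ H := le_cj_iff.1 (e ▸ h5)
    obtain ⟨k, hk, h7⟩ := Sylow_trans hP (pHall_of_card_le hP h6 (pgroupJ _ hP.pi) (card_cj _ _).ge)
    obtain ⟨l, hl, o, ho, e'⟩ := sd_mem' sd (show g * k ∈ N[A] by rw [BG.mem_norm, cj_mul, ← h7, cj_cj_inv])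
    refine ⟨o, hO ho, ?_⟩
    rw [← cj_of_mem hk, ← cj_mul, e', cj_mul, eq_comm, cj_eq_iff, cj_of_mem (inv_mem (h3 hl))] at e
    exact e.symm
  have h6 := nilpotent_proper_norm (pgroup_nil hP.pg) l3
  obtain ⟨Q, hQ⟩ := Sylow_exists p L
  obtain ⟨n, hn, h7⟩ := Sylow_Jsub (subHall_Sylow hL hp hQ) inf_le_right (hP.pg.to_le (inf_le_left : P ⊓ N[A] ≤ P))
  obtain ⟨l, hl, o, ho, rfl⟩ := sd_mem' sd hn
  rw [cj_mul, cj_le_iff] at h7
  have h8 : A < cj o (P ⊓ N[A]) := by rwa [← cj_of_norm (sd.lel ho), cj_lt_cj, cj_of_norm (sd.lel ho)]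
  obtain ⟨c, hc, e⟩ := ih _ h8 (h8.ne_bot) (IsPGroup.cj (hP.pg.to_le inf_le_left) o) (h1.cj o) h4
    (cj_mono _ (inf_le_left.trans hP.le)) ((h7.trans (cj_le_of_mem (inv_mem hl) hQ.le)).trans h3)
  exact ⟨c * o, mul_mem (centS h8.le hc) (hO ho), by rwa [cj_mul]⟩

theorem LC.fusion (h : LC π G) (h1 : DP π H) (hx : x ∈ H) (hy : y ∈ H) (hc : IsConj x y) : ∃ k ∈ H, k * x * k⁻¹ = y := by
  obtain ⟨g, rfl⟩ := isConj_iff.1 hc
  obtain rfl | x1 := eq_or_ne x 1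
  · exact ⟨1, one_mem _, by simp⟩
  obtain ⟨p, hp, hd⟩ := Nat.exists_prime_and_dvd (mt orderOf_eq_one_iff.1 x1)
  haveI := Fact.mk hp
  have hπ := mem_p_elt h1.1.pi hx p hp hd
  have h0 : zpowers (constt {p} x) ≠ ⊥ := mt zpowers_eq_bot.1 (constt_ne_one hp rfl hd)
  have hA := pgroup_iff.2 (p_elt_zpowers.2 (p_elt_constt {p} x))
  have l1 := zpowers_le.2 (constt_mem {p} hx)
  have hxA : x ∈ C[zpowers (constt {p} x)] := by rw [C_zpowers]; exact mem_cent1_constt _ x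
  obtain ⟨c, hc, e⟩ := h.conj hπ h0 hA h1 (h1.cj g⁻¹) l1 (zpowers_le.2 (mem_cj_inv.2 (consttJ {p} g x ▸ constt_mem _ hy)))
  generalize zpowers (constt {p} x) = A at *
  obtain ⟨O, L, hO, -, hL, sd⟩ := h.dec (h0 <| le_bot_iff.1 <| · ▸ l1) h1.1.pi
  rw [← Hall_eq_of_le (pHall_subl (normG H) le_top h1.1) hL (normal_sub_Hall hL (normalG H) h1.1.pi)] at sd
  obtain ⟨k, hk, o, ho, e'⟩ := sd_mem' sd (show g * c ∈ N[H] by rw [BG.mem_norm, cj_mul, ← e, cj_cj_inv])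
  have hd := mul_mem (centS l1 (hO ho)) (inv_mem hc)
  obtain ⟨O, L, hO, pO, hL, sd⟩ := h.dec h0 (pi_pgroup hA hπ)
  obtain ⟨j, h3⟩ := h1.2 L hL.pi
  obtain ⟨b, hb, e''⟩ := h.conj hπ h0 hA h1 (h1.cj j) l1 ((normal_sub_Hall hL (normalG A) (pi_pgroup hA hπ)).trans h3)
  have sd' := sd.cj b⁻¹
  rw [cj_of_mem (inv_mem (cent_sub A hb)), sd.normal.cj_eq (inv_mem (cent_sub A hb))] at sd'
  rw [e'', le_cj_iff] at h3
  obtain ⟨l, hl, d, hd', e3⟩ := sd_mem' sd' (cent_sub A hd)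
  have e4 : g = k * l * d := by rw [mul_assoc, ← e3, ← mul_assoc, ← e', mul_inv_cancel_right]
  have hk' := mul_mem hk (h3 hl)
  have h4 : d * x * d⁻¹ * x⁻¹ ∈ O ⊓ H := ⟨by
    rw [mul_assoc, mul_assoc, ← mul_assoc x]; exact mul_mem hd' (sd.normal.conj_mem (cent_sub A hxA) (inv_mem hd')), by
    refine H.mul_mem ?_ (H.inv_mem hx)
    have := mul_mem (mul_mem (inv_mem hk') hy) hk'
    rwa [e4, show (k * l)⁻¹ * (k * l * d * x * (k * l * d)⁻¹) * (k * l) = d * x * d⁻¹ by group] at this⟩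
  rw [pgroup_TI' pO h1.1.pi, mem_bot, mul_inv_eq_one] at h4
  exact ⟨_, hk', by rw [e4]; conv_lhs => rw [← h4]
                    group⟩

theorem LC.cl (h : LC π G) (h1 : DP π H) : Cl πᶜ G := by
  obtain ⟨K, hK, h2, h3⟩ := S0877.result H (by simpa using h1.1.coprime) (fun x hx y hy => h.fusion h1 hx hy)
    fun E p _ _ hE => let ⟨g, h⟩ := h1.2 E (h1.1.pi.of_dvd hE); ⟨g⁻¹, le_cj_iff.1 h⟩
  have sd : Sdprod K H ⊤ := ⟨h2, le_top.trans (normal_top K).norm, h3⟩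
  have h4 : IsPiHallOf πᶜ K ⊤ := pHall_mk le_top (by rw [PiGrp, ← sd.relIndexr]; exact h1.1.idx)
    (by rw [sd.relIndexl, compl_compl]; exact h1.1.pi)
  exact piClosed_iff_top.2 (by rwa [normal_Hall_pcore h4 (normal_top K)])

theorem cl_of_DP {G : Type u} [Group G] [Finite G] {H : Subgroup G} (h : DP π H) (h0 : PiHom πᶜ G)
    (h1 : ∀ M : Subgroup G, M ≠ ⊤ → Cl πᶜ M) : Cl πᶜ G := by
  refine closed_induction (fun G _ _ => (∃ H : Subgroup G, DP π H) ∧ ∀ M : Subgroup G, M ≠ ⊤ → Cl πᶜ M)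
    (fun _ _ _ N _ hN h => .inr (h.2 N hN)) (fun _ _ _ N _ ⟨⟨H, h⟩, h1⟩ => ⟨⟨_, h.quo N⟩, fun M hM => ?_⟩)
    (fun G _ _ _ _ _ ⟨⟨H, h⟩, h1⟩ => ?_) G h0 ⟨⟨H, h⟩, h1⟩
  · have hf := QuotientGroup.mk'_surjective N
    have h2 := piClosed_iff.1 (h1 (M.comap (QuotientGroup.mk' N)) fun e => hM (comap_injective hf (e.trans (comap_top _).symm)))
    have h3 := pHall_map (QuotientGroup.mk' N) h2
    have h4 := normal_map (QuotientGroup.mk' N) (pcore_normal πᶜ (M.comap (QuotientGroup.mk' N)))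
    rw [map_comap_eq_self_of_surjective hf] at h3 h4
    exact piClosed_iff.2 (by rwa [normal_Hall_pcore h3 h4])
  by_cases h2 : PiGrp π (⊤ : Subgroup G)
  · exact cl_of_pi' fun x => by simpa using mem_p_elt h2 (mem_top x)
  refine LC.cl (fun A h3 h4 => piClosed_iff.1 (h1 _ fun e => h2 ?_)) h
  exact (IsSimpleGroup.eq_bot_or_eq_top_of_normal A (normalizer_eq_top_iff.1 e)).resolve_left h3 ▸ h4

end Cfsg.Agent.LieM
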