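import Cfsg.Agent.LieM.Gold6
import Cfsg.Agent.Sz.Aut
import Cfsg.Agent.Sz.Partition
import Cfsg.Agent.SZ.Ch1
import Mathlib.Tactic.Group

/-! Automorphisms of prime order of Suzuki groups (helper2): `sz_aut_conj` (coprime automorphisms are conjugate to field
automorphisms), `sz_aut_fix` (solvable fixed points force the field of order `2 ^ p`). -/
set_option autoImplicit false
set_option linter.unusedSectionVars false
namespace Cfsg.Agent.LieM
open Cfsg Subgroup Cfsg.Agent.BG Cfsg.Agent.Sz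

variable {F : Type*} [Field F] [Tits F] [Finite F] {X : Type*} [Group X] [SzRep F X]

variable (F X) in
include F in
theorem sz_ncomm : ¬ IsMulCommutative X := by
  haveI := finite_G F X
  haveI := Sz.isSimpleGroup F X
  exact ncomm_of_four (card_G (F := F) (G := X) ▸ (((four_dvd_card F).pow two_ne_zero).mul_right _).mul_right _)

variable (F) in
theorem sz_aut_conj {α : MulAut X} {p : ℕ} (hp : p.Prime) (hα : orderOf α = p) (hc : ¬ p ∣ Nat.card X) :
    ∃ (σ : F ≃+* F) (k : MulAut X), orderOf σ = p ∧ zpowers (fieldAut F X σ) = BG.cj k (zpowers α) := by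
  haveI := finite_G F X
  haveI := Sz.isSimpleGroup F X
  haveI := Fact.mk hp
  obtain ⟨x, σ, e⟩ := exists_eq_conj_mul_fieldAut F α
  obtain ⟨I, eI⟩ : ∃ I : Subgroup (MulAut X), I = (MulAut.conj : X →* MulAut X).range := ⟨_, rfl⟩
  haveI : I.Normal := eI ▸ ⟨by
    rintro _ ⟨g, rfl⟩ β
    exact ⟨β g, by ext y; simp⟩⟩
  have xI : MulAut.conj x ∈ I := eI ▸ ⟨x, rfl⟩
  have cI : (#I).Coprime p := (Nat.Coprime.symm (hp.coprime_iff_not_dvd.2 hc)).of_dvd_left (eI ▸ card_range_dvd _)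
  have h1 : (α : MulAut X ⧸ I) = fieldAut F X σ := by
    rw [e, QuotientGroup.mk_mul, (QuotientGroup.eq_one_iff _).2 xI, one_mul]
  have h2 : σ ^ p = 1 := by
    obtain ⟨g, hg⟩ := eI.le ((QuotientGroup.eq_one_iff (N := I) (fieldAut F X σ ^ p)).1 (by
      rw [QuotientGroup.mk_pow, ← h1, ← QuotientGroup.mk_pow, ← hα, pow_orderOf_eq_one, QuotientGroup.mk_one]))
    exact eq_one_of_fieldAut_eq_conj (G := X) (by rw [map_pow, hg])
  have h3 : orderOf σ = p := orderOf_eq_prime h2 fun r => by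
    rw [r, map_one, mul_one] at e
    exact hp.one_lt.ne' (Nat.eq_one_of_dvd_coprimes cI (hα ▸ orderOf_dvd_cardG (e ▸ xI)) dvd_rfl)
  obtain ⟨k, -, hk⟩ := SchurZassenhaus_trans (K := I) (A := zpowers α) (B := zpowers (fieldAut F X σ))
    (le_top.trans (normalizer_eq_top I).ge) (le_antisymm (sup_le le_sup_left (zpowers_le.2 (e ▸ mul_mem_sup xI (mem_zpowers _))))
      (sup_le le_sup_left (zpowers_le.2 (by
        rw [← inv_mul_eq_iff_eq_mul.2 e]; exact mul_mem_sup (inv_mem xI) (mem_zpowers _)))))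
    (by rwa [Nat.card_zpowers, hα]) (cI.of_dvd_right (by rw [Nat.card_zpowers, ← h3]; exact orderOf_map_dvd _ _))
    (Or.inr (abelian_sol (abelian_zpowers α)))
  exact ⟨σ, k, h3, hk⟩

variable (F) in
theorem sz_aut_fix {α : MulAut X} {p : ℕ} (hp : p.Prime) (hα : α ^ p = 1) (hc : ¬ p ∣ Nat.card X)
    (hs : ∀ H : Subgroup X, (∀ x ∈ H, α x = x) → Group.IsSolvable H) : Nat.card F = 2 ^ p := by
  haveI := finite_G F X
  haveI := Fact.mk hp
  have ns : ∀ (K : Type _) [Field K] [Tits K] [Finite K] (Y : Type _) [Group Y] [SzRep K Y], ¬ Group.IsSolvable Y :=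
    fun K _ _ _ Y _ _ h => by
      haveI := Sz.isSimpleGroup K Y
      exact sz_ncomm K Y ⟨⟨IsSimpleGroup.comm_iff_isSolvable.2 h⟩⟩
  obtain ⟨σ, k, h1, h2⟩ := sz_aut_conj F hp (orderOf_eq_prime hα fun r => by
    haveI := Sz.isSimpleGroup F X
    exact sz_ncomm F X ⟨⟨IsSimpleGroup.comm_iff_isSolvable.2 (isog_sol ⟨topEquiv⟩ (hs ⊤ fun x _ => by rw [r]; rfl))⟩⟩) hc
  let K : Subfield F := RingHom.eqLocusField (σ : F →+* F) (RingHom.id F)
  have h3 : ¬ ∃ a ∈ K, a ≠ 0 ∧ a ≠ 1 := fun hK => by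
    letI := titsSub K hK
    refine ns K (SzGL K) (isog_sol ⟨((equivSzSub (G := X) (SzGL K) K.subtype).trans
      (equivMapOfInjective _ (k⁻¹ : MulAut X).toMonoidHom (k⁻¹).injective)).symm⟩ (hs _ ?_))
    rintro _ ⟨y, hy, rfl⟩
    have h4 : ∀ β ∈ zpowers (fieldAut F X σ), β y = y := fun β hβ => (zpowers_le (H := MulAction.stabilizer (MulAut X) y)).2
      (rho_inj (F := F) (by
        rw [MulAut.smul_def, rho_fieldAut]; ext i j
        obtain ⟨a, ha⟩ := mem_SzSub.1 hy i j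
        rw [Matrix.map_apply, ← ha]; exact a.2)) hβ
    have := h4 _ (h2 ▸ conj_mem_cj k (mem_zpowers α))
    exact k.injective (by simpa using this)
  rw [Suz.card_eq_fix_pow σ, h1]
  congr 1
  rw [Nat.card_eq_two_iff]
  refine ⟨⟨0, map_zero σ⟩, ⟨1, map_one σ⟩, by simp, Set.eq_univ_of_forall fun a => by_contra fun r => h3 ⟨a, a.2, ?_⟩⟩
  simpa [Subtype.ext_iff] using r

end Cfsg.Agent.LieM
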